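import Mathlib
import Groth.Agent.Lib.Helper4.ChevCrit5
import Groth.Agent.Lib.Helper7.OpenAtUB.Sch

/-! helper7: Chevalley's criterion of universal openness for a dominant morphism of irreducible
schemes with constant fibre dimension over a geometrically unibranch base, without Noetherian
hypotheses (S2568).  The two chart lemmas are adaptations of helper4's `ChevCrit4` versions: the
finite presentation used there (through lifting of generizations) is replaced by helper7's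
`OpenAtUB.isOpenAt_of_isolated`, which needs only finite type. -/

set_option backward.isDefEq.respectTransparency.types false
set_option synthInstance.maxHeartbeats 400000
set_option autoImplicit false
set_option linter.unusedSectionVars false
set_option linter.style.haveILetI false
set_option linter.unusedSimpArgs false
universe u v w
open CategoryTheory CategoryTheory.Limits AlgebraicGeometry TopologicalSpace IsLocalRing Opposite
open Cardinal AffineSpace MvPolynomial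
open Groth.Agent.Lib.Helper4.DimIneq1 Groth.Agent.Lib.Helper4.DimFT2 Groth.Agent.Lib.Helper4.Catenary1
open Groth.Agent.Lib.Helper4.DimEq1 Groth.Agent.Lib.Helper4.DimIneq2 Groth.Agent.Lib.Helper4.DimEq2
open Groth.Agent.Lib.Helper4.DimIneq3 Groth.Agent.Lib.Helper4.DimIneq4
open Groth.Agent.Lib.Helper4.NormFibre2 Groth.Agent.Lib.Helper4.RadBir3 Groth.Agent.Lib.Helper4.DimFT3
open Groth.Agent.Lib.Helper4.FibDim1 Groth.Agent.Lib.Helper4.FibDim2 Groth.Agent.Lib.Helper4.LocUC1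
open Groth.Agent.Lib.Helper4.FibDim3 Groth.Agent.Lib.Helper4.FibDim4 Groth.Agent.Lib.Helper4.FibDim5
open Groth.Agent.Lib.Helper4.FibDim6 Groth.Agent.Lib.Helper4.FibDim7 Groth.Agent.Lib.Helper4.JacDim1
open Groth.Agent.Lib.Helper4.DimFT1
open Groth.Agent.Lib.Helper4.Chev2 Groth.Agent.Lib.Helper4.Chev5 Groth.Agent.Lib.Helper4.Chev6 Groth.Agent.Lib.Helper4.Chev8
open Groth.Agent.Lib.Helper4.JacDim4 Groth.Agent.Lib.Helper4.EffCartierDim1
open Groth.Agent.Lib.Helper4.Chev9 Groth.Agent.Lib.Helper4.Chev4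
open Groth.Agent.Lib.Helper4.Chev10 Groth.Agent.Lib.Helper4.Chev11 Groth.Agent.Lib.Helper4.Chev3 Groth.Agent.Lib.Helper4.Equi1 Groth.Agent.Lib.Helper4.Equi2 Groth.Agent.Lib.Helper4.OpenAt1 Groth.Agent.Lib.Helper4.Equi3 Groth.Agent.Lib.Helper4.Equi4 Groth.Agent.Lib.Helper4.Equi5 Groth.Agent.Lib.Helper4.Equi6 Groth.Agent.Lib.Helper4.Equi7 Groth.Agent.Lib.Helper4.Aff1 Groth.Agent.Lib.Helper4.Aff2 Groth.Agent.Lib.Helper4.Equi10 Groth.Agent.Lib.Helper4.Val1 Groth.Agent.Lib.Helper4.BaseChg1 Groth.Agent.Lib.Helper4.UnivOpen1 Groth.Agent.Lib.Helper4.FibClosure1 Groth.Agent.Lib.Helper4.OpenNoeth1 Groth.Agent.Lib.Helper4.SecComp1 Groth.Agent.Lib.Helper4.SecComp2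
open Groth.Agent.Lib.Helper4.SecComp3 Groth.Agent.Lib.Helper4.PropDim1 Groth.Agent.Lib.Helper4.ZMTNormalPt1 Groth.Agent.Lib.Helper4.UO Groth.Agent.Lib.Helper4.UOp
open Groth.Agent.Lib.Helper4.ChevCrit1 Groth.Agent.Lib.Helper4.ChevCrit2 Groth.Agent.Lib.Helper4.ChevCrit3
open Groth.Agent.Lib.Helper4.IrrCompDomain1 Groth.Agent.Lib.Helper4.RadBir1
open Groth.Agent.Lib.Helper4.ChevCrit4

open Groth.Agent.Lib.Helper4.ChevCrit4 Groth.Agent.Lib.Helper4.ChevCrit5
set_option linter.unusedVariables false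
set_option maxHeartbeats 1600000

namespace Groth.Agent.Helper7.ChevUO

theorem isUnivOpenAt_of_chart' {U V : Scheme.{u}} [IrreducibleSpace U] [IrreducibleSpace V] (d : ℕ)
    (π : U ⟶ 𝔸(ULift.{u} (Fin d); V)) [LocallyOfFiniteType π] [LocallyQuasiFinite π]
    (w : U)
    (H1 : ∀ s : V, (𝔸(ULift.{u} (Fin d); V) ↘ V).base (π.base (genericPoint U)) ⤳ s)
    (H2 : tr (π ≫ (𝔸(ULift.{u} (Fin d); V) ↘ V)) (genericPoint U) = d)
    (H3 : CAlg2.IsGeomUnibranch
      (V.presheaf.stalk ((𝔸(ULift.{u} (Fin d); V) ↘ V).base (π.base w)))) :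
    EGA43.IsUnivOpenAt π w := by
  -- level 0: π η_U is the most generic generization of π w
  have htr0 : (tr (𝔸(ULift.{u} (Fin d); V) ↘ V) (π.base (genericPoint U)) : Cardinal.{u}) =
      #(ULift.{u} (Fin d)) := by
    have h1 := Groth.Agent.Lib.Helper4.PropDim1.tr_comp π (𝔸(ULift.{u} (Fin d); V) ↘ V) (genericPoint U)
    rw [tr_eq_zero_of_locallyQuasiFinite π, add_zero, H2] at h1
    rw [← h1, card_ulift_fin]
  have hgen0 : ∀ s : 𝔸(ULift.{u} (Fin d); V), π.base (genericPoint U) ⤳ s := by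
    intro s
    apply specializes_of_tr_eq_affineSpace _ _ _ htr0
    exact H1 _
  have hgu0 : CAlg2.IsGeomUnibranch ((𝔸(ULift.{u} (Fin d); V)).presheaf.stalk (π.base w)) :=
    S4936_main d (π.base w) H3
  apply isUnivOpenAt_of_affineSpace
  intro n z hz
  haveI : LocallyOfFiniteType (map (ULift.{u} (Fin n)) π) :=
    MorphismProperty.of_isPullback (P := @LocallyOfFiniteType) (isPullback_map π).flip inferInstance
  haveI : LocallyQuasiFinite (map (ULift.{u} (Fin n)) π) :=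
    MorphismProperty.of_isPullback (P := @LocallyQuasiFinite) (isPullback_map π).flip inferInstance
  have hsq : map (ULift.{u} (Fin n)) π ≫ (𝔸(ULift.{u} (Fin n); 𝔸(ULift.{u} (Fin d); V)) ↘ 𝔸(ULift.{u} (Fin d); V)) =
      (𝔸(ULift.{u} (Fin n); U) ↘ U) ≫ π := map_over π
  have hsq' : ∀ a, (𝔸(ULift.{u} (Fin n); 𝔸(ULift.{u} (Fin d); V)) ↘ 𝔸(ULift.{u} (Fin d); V)).base
      ((map (ULift.{u} (Fin n)) π).base a) = π.base ((𝔸(ULift.{u} (Fin n); U) ↘ U).base a) := by
    intro a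
    rw [← Scheme.Hom.comp_apply, hsq, Scheme.Hom.comp_apply]
  have hzw : (𝔸(ULift.{u} (Fin n); 𝔸(ULift.{u} (Fin d); V)) ↘ 𝔸(ULift.{u} (Fin d); V)).base
      ((map (ULift.{u} (Fin n)) π).base z) = π.base w := by rw [hsq', hz]
  have hgu1 : CAlg2.IsGeomUnibranch ((𝔸(ULift.{u} (Fin n); 𝔸(ULift.{u} (Fin d); V))).presheaf.stalk
      ((map (ULift.{u} (Fin n)) π).base z)) := by
    apply S4936_main
    rw [hzw]; exact hgu0
  obtain ⟨ζ, hζ⟩ : ∃ ζ, ζ = genericPoint 𝔸(ULift.{u} (Fin n); U) := ⟨_, rfl⟩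
  have hζmax : ∀ ζ' : 𝔸(ULift.{u} (Fin n); U), ζ' ⤳ ζ → ζ' = ζ := by
    intro ζ' h
    rw [hζ] at h ⊢
    exact (h.antisymm (genericPoint_specializes ζ')).eq
  have htrζ := tr_eq_of_isMax_affineSpace (ULift.{u} (Fin n)) U ζ hζmax
  have htr1 : (tr (𝔸(ULift.{u} (Fin n); 𝔸(ULift.{u} (Fin d); V)) ↘ 𝔸(ULift.{u} (Fin d); V))
      ((map (ULift.{u} (Fin n)) π).base ζ) : Cardinal.{u}) = #(ULift.{u} (Fin n)) := by
    have h1 := Groth.Agent.Lib.Helper4.PropDim1.tr_comp (map (ULift.{u} (Fin n)) π)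
      (𝔸(ULift.{u} (Fin n); 𝔸(ULift.{u} (Fin d); V)) ↘ 𝔸(ULift.{u} (Fin d); V)) ζ
    rw [tr_eq_zero_of_locallyQuasiFinite (map (ULift.{u} (Fin n)) π), add_zero] at h1
    have h2 := Groth.Agent.Lib.Helper4.PropDim1.tr_comp (𝔸(ULift.{u} (Fin n); U) ↘ U) π ζ
    rw [tr_eq_zero_of_locallyQuasiFinite π, zero_add] at h2
    have h3 := tr_congr_hom _ _ hsq ζ
    rw [← h1, h3, h2]; exact htrζ
  have hdense : ∀ t : 𝔸(ULift.{u} (Fin n); 𝔸(ULift.{u} (Fin d); V)),
      (map (ULift.{u} (Fin n)) π).base ζ ⤳ t := by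
    intro t
    apply specializes_of_tr_eq_affineSpace _ _ _ htr1
    rw [hsq']
    have h5 : (𝔸(ULift.{u} (Fin n); U) ↘ U).base ζ ⤳ genericPoint U := by
      rw [hζ]; exact map_genericPoint_specializes _ _
    exact (h5.map π.continuous).trans (hgen0 _)
  have hdr : DenseRange (map (ULift.{u} (Fin n)) π).base := by
    intro t
    have h6 : t ∈ closure {(map (ULift.{u} (Fin n)) π).base ζ} :=
      specializes_iff_mem_closure.mp (hdense t)
    have h7 : ({(map (ULift.{u} (Fin n)) π).base ζ} :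
        Set ↥(𝔸(ULift.{u} (Fin n); 𝔸(ULift.{u} (Fin d); V)))) ⊆
        Set.range (map (ULift.{u} (Fin n)) π).base := by
      rintro _ rfl
      exact ⟨ζ, rfl⟩
    exact closure_mono h7 h6
  have hiso : nhdsWithin z ((map (ULift.{u} (Fin n)) π).base ⁻¹'
      {(map (ULift.{u} (Fin n)) π).base z}) = pure z :=
    (Scheme.Hom.isDiscrete_preimage_singleton (map (ULift.{u} (Fin n)) π) _).nhdsWithin z rfl
  exact Groth.Agent.Helper7.OpenAtUB.isOpenAt_of_isolated (map (ULift.{u} (Fin n)) π) hdr z hiso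
    hgu1.1


theorem isUnivOpenAt_of_irreducible {W Y : Scheme.{u}} [IrreducibleSpace W] [IrreducibleSpace Y]
    (h : W ⟶ Y) [LocallyOfFiniteType h] [IsDominant h] (w : W)
    (H2 : FlatMor.fibreDimAt h w = ((tr h (genericPoint W) : ℕ) : WithBot ℕ∞))
    (H3 : CAlg2.IsGeomUnibranch (Y.presheaf.stalk (h.base w))) :
    EGA43.IsUnivOpenAt h w := by
  obtain ⟨V, hV', hwV, -⟩ := exists_isAffineOpen_mem_and_subset (U := (⊤ : Y.Opens))
    (x := h.base w) trivial
  obtain ⟨U, hU, hwU, g, π, hg, hπ, hqf, hft⟩ :=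
    S7625_main h w V hV' hwV (tr h (genericPoint W)) H2
  haveI := hqf
  haveI := hft
  haveI : Nonempty ↥U := ⟨⟨w, hwU⟩⟩
  haveI : Nonempty ↥(U : Scheme.{u}) := ⟨⟨w, hwU⟩⟩
  haveI : IrreducibleSpace ↥(U : Scheme.{u}) := Subtype.irreducibleSpace
    ⟨⟨w, hwU⟩, (IrreducibleSpace.isIrreducible_univ ↥W).isPreirreducible.open_subset U.2
      (Set.subset_univ _)⟩
  haveI : IrreducibleSpace ↥(V : Scheme.{u}) := Subtype.irreducibleSpace
    ⟨⟨h.base w, hwV⟩, (IrreducibleSpace.isIrreducible_univ ↥Y).isPreirreducible.open_subset V.2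
      (Set.subset_univ _)⟩
  obtain ⟨w', hw'⟩ : ∃ w' : ↥(U : Scheme.{u}), w' = ⟨w, hwU⟩ := ⟨_, rfl⟩
  have hUw : U.ι.base w' = w := by rw [hw']; rfl
  have hpt : ∀ u : ↥(U : Scheme.{u}), V.ι.base (g.base u) = h.base (U.ι.base u) := by
    intro u
    rw [← Scheme.Hom.comp_apply, hg, Scheme.Hom.comp_apply]
  have hpt2 : ∀ u : ↥(U : Scheme.{u}),
      (𝔸(ULift.{u} (Fin (tr h (genericPoint W))); (V : Scheme.{u})) ↘ (V : Scheme.{u})).base
        (π.base u) = g.base u := by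
    intro u
    rw [← Scheme.Hom.comp_apply, hπ]
  have hgenU : U.ι.base (genericPoint ↥(U : Scheme.{u})) = genericPoint W :=
    genericPoint_eq_of_isOpenImmersion U.ι
  haveI : LocallyOfFiniteType g := by rw [← hπ]; infer_instance
  have hcore : EGA43.IsUnivOpenAt π w' := by
    apply isUnivOpenAt_of_chart'
    · intro s
      rw [hpt2]
      rw [← V.ι.isEmbedding.isInducing.specializes_iff, hpt, hgenU]
      exact map_genericPoint_specializes h _
    · rw [tr_congr_hom _ g hπ]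
      have h1 := Groth.Agent.Lib.Helper4.PropDim1.tr_comp g V.ι (genericPoint ↥(U : Scheme.{u}))
      rw [tr_openImmersion V.ι, zero_add] at h1
      have h2 := tr_restrict h U (genericPoint ↥(U : Scheme.{u}))
      rw [hgenU] at h2
      rw [← h1, ← h2]
      exact tr_congr_hom _ _ hg _
    · rw [hpt2]
      apply isGeomUnibranch_of_isOpenImmersion V.ι (g.base w') (h.base w) _ H3
      rw [hpt, hUw]
  haveI := universallyOpen_affineSpace_over (ULift.{u} (Fin (tr h (genericPoint W)))) (V : Scheme.{u})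
  have h1 : EGA43.IsUnivOpenAt (π ≫ (𝔸(ULift.{u} (Fin (tr h (genericPoint W))); (V : Scheme.{u})) ↘
      (V : Scheme.{u}))) w' :=
    S4925_main _ _ w' hcore (isUnivOpenAt_of_universallyOpen _ _)
  rw [hπ] at h1
  have h2 : EGA43.IsUnivOpenAt (g ≫ V.ι) w' :=
    S4925_main _ _ w' h1 (isUnivOpenAt_of_universallyOpen _ _)
  rw [hg] at h2
  have h3 := S4926_main U.ι h w' h2
  rwa [hUw] at h3

/-- **S2568**: Chevalley's criterion, irreducible source and base, no Noetherian hypothesis. -/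
theorem main {X Y : Scheme.{u}} [IrreducibleSpace X] [IrreducibleSpace Y]
    (hY : ∀ y : Y, CAlg2.IsGeomUnibranch (Y.presheaf.stalk y)) (f : X ⟶ Y)
    [LocallyOfFiniteType f] [IsDominant f]
    (h : ∀ x : X, FlatMor.fibreDimAt f x =
      topologicalKrullDim ↥(f.fiber (f.base (genericPoint X)))) :
    UniversallyOpen f := by
  apply universallyOpen_of_forall_isUnivOpenAt
  intro x
  obtain ⟨d, hd, -⟩ := exists_open_fibreDimAt_le f (genericPoint X)
  obtain ⟨ξ, hξ, -, htr, -⟩ := exists_max_gen_tr_eq f (genericPoint X) d hd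
  have hξeq : ξ = genericPoint X := (hξ.antisymm (genericPoint_specializes ξ)).eq
  rw [hξeq] at htr
  apply isUnivOpenAt_of_irreducible f x _ (hY _)
  rw [h x, ← h (genericPoint X), hd, htr]

end Groth.Agent.Helper7.ChevUO
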