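import Mathlib
import Groth.Agent.Lib.Helper7.ChevUO.Main

/-! helper7: equidimensional morphisms from irreducible schemes to a geometrically unibranch base
with finitely many irreducible components are universally open (S14070), via `ChevUO.Main`. -/

set_option backward.isDefEq.respectTransparency.types false
set_option synthInstance.maxHeartbeats 400000
set_option autoImplicit false
set_option linter.unusedSectionVars false
set_option linter.style.haveILetI false
set_option linter.unusedSimpArgs false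
universe u v w
open CategoryTheory CategoryTheory.Limits AlgebraicGeometry TopologicalSpace IsLocalRing Opposite
open Cardinal AffineSpace MvPolynomial
open Groth.Agent.Lib.Helper4.DimIneq1 Groth.Agent.Lib.Helper4.DimFT2 Groth.Agent.Lib.Helper4.Catenary1
open Groth.Agent.Lib.Helper4.DimEq1 Groth.Agent.Lib.Helper4.DimIneq2 Groth.Agent.Lib.Helper4.DimEq2
open Groth.Agent.Lib.Helper4.DimIneq3 Groth.Agent.Lib.Helper4.DimIneq4
open Groth.Agent.Lib.Helper4.NormFibre2 Groth.Agent.Lib.Helper4.RadBir3 Groth.Agent.Lib.Helper4.DimFT3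
open Groth.Agent.Lib.Helper4.FibDim1 Groth.Agent.Lib.Helper4.FibDim2 Groth.Agent.Lib.Helper4.LocUC1
open Groth.Agent.Lib.Helper4.FibDim3 Groth.Agent.Lib.Helper4.FibDim4 Groth.Agent.Lib.Helper4.FibDim5
open Groth.Agent.Lib.Helper4.FibDim6 Groth.Agent.Lib.Helper4.FibDim7 Groth.Agent.Lib.Helper4.JacDim1
open Groth.Agent.Lib.Helper4.DimFT1
open Groth.Agent.Lib.Helper4.Chev2 Groth.Agent.Lib.Helper4.Chev5 Groth.Agent.Lib.Helper4.Chev6 Groth.Agent.Lib.Helper4.Chev8
open Groth.Agent.Lib.Helper4.JacDim4 Groth.Agent.Lib.Helper4.EffCartierDim1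
open Groth.Agent.Lib.Helper4.Chev9 Groth.Agent.Lib.Helper4.Chev4
open Groth.Agent.Lib.Helper4.Chev10 Groth.Agent.Lib.Helper4.Chev11 Groth.Agent.Lib.Helper4.Chev3 Groth.Agent.Lib.Helper4.Equi1 Groth.Agent.Lib.Helper4.Equi2 Groth.Agent.Lib.Helper4.OpenAt1 Groth.Agent.Lib.Helper4.Equi3 Groth.Agent.Lib.Helper4.Equi4 Groth.Agent.Lib.Helper4.Equi5 Groth.Agent.Lib.Helper4.Equi6 Groth.Agent.Lib.Helper4.Equi7 Groth.Agent.Lib.Helper4.Aff1 Groth.Agent.Lib.Helper4.Aff2 Groth.Agent.Lib.Helper4.Equi10 Groth.Agent.Lib.Helper4.Val1 Groth.Agent.Lib.Helper4.BaseChg1 Groth.Agent.Lib.Helper4.UnivOpen1 Groth.Agent.Lib.Helper4.FibClosure1 Groth.Agent.Lib.Helper4.OpenNoeth1 Groth.Agent.Lib.Helper4.SecComp1 Groth.Agent.Lib.Helper4.SecComp2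
open Groth.Agent.Lib.Helper4.SecComp3 Groth.Agent.Lib.Helper4.PropDim1 Groth.Agent.Lib.Helper4.ZMTNormalPt1 Groth.Agent.Lib.Helper4.UO Groth.Agent.Lib.Helper4.UOp
open Groth.Agent.Lib.Helper4.ChevCrit1 Groth.Agent.Lib.Helper4.ChevCrit2 Groth.Agent.Lib.Helper4.ChevCrit3
open Groth.Agent.Lib.Helper4.IrrCompDomain1 Groth.Agent.Lib.Helper4.RadBir1
open Groth.Agent.Lib.Helper4.ChevCrit4

open Groth.Agent.Lib.Helper4.ChevCrit4 Groth.Agent.Lib.Helper4.ChevCrit5
set_option linter.unusedVariables false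
set_option maxHeartbeats 1600000


namespace Groth.Agent.Helper7.ChevUOT

open Groth.Agent.Helper7.ChevUO

theorem isOpen_of_mem_irreducibleComponents (S : Scheme.{u})
    (hS : ∀ s : S, IsDomain (CAlg2.red (S.presheaf.stalk s)))
    (hfin : (irreducibleComponents (S : Type u)).Finite)
    (Z : Set S) (hZ : Z ∈ irreducibleComponents (S : Type u)) : IsOpen Z := by
  have huniq : ∀ x : S, ∀ Z Z', Z ∈ irreducibleComponents (S : Type u) → x ∈ Z →
      Z' ∈ irreducibleComponents (S : Type u) → x ∈ Z' → Z = Z' := by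
    intro x Z Z' hZ hxZ hZ' hxZ'
    obtain ⟨η, hη⟩ := exists_generic_generization' S x (hS x)
    rw [eq_closure_of_mem S x η hη Z hZ hxZ, eq_closure_of_mem S x η hη Z' hZ' hxZ']
  have hWc : IsClosed (⋃₀ ((irreducibleComponents (S : Type u)) \ {Z})) := by
    rw [Set.sUnion_eq_biUnion]
    apply Set.Finite.isClosed_biUnion (hfin.subset Set.sdiff_subset)
    intro Z' hZ'
    exact isClosed_of_mem_irreducibleComponents Z' hZ'.1
  have hZW : Z = (⋃₀ ((irreducibleComponents (S : Type u)) \ {Z}))ᶜ := by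
    ext x
    constructor
    · rintro hx ⟨Z', ⟨hZ', hne⟩, hxZ'⟩
      exact hne (huniq x Z' Z hZ' hxZ' hZ hx)
    · intro hx
      by_contra hxZ
      apply hx
      refine ⟨irreducibleComponent x, ⟨irreducibleComponent_mem_irreducibleComponents x, ?_⟩,
        mem_irreducibleComponent⟩
      intro h
      rw [Set.mem_singleton_iff] at h
      exact hxZ (h ▸ mem_irreducibleComponent)
  rw [hZW]
  exact hWc.isOpen_compl

theorem isUnivOpenAt_of_isEquidimAt_irreducible {W S : Scheme.{u}} [IrreducibleSpace W]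
    (hS : ∀ s : S, CAlg2.IsGeomUnibranch (S.presheaf.stalk s))
    (hfin : (irreducibleComponents (S : Type u)).Finite)
    (h : W ⟶ S) [LocallyOfFiniteType h] (w : W) (hE : EGA43.IsEquidimAt h w) :
    EGA43.IsUnivOpenAt h w := by
  obtain ⟨e, U, hwU, F1, F2, F3⟩ := isEquidimAt_facts' h w hE
  have hgU : genericPoint W ∈ U := (genericPoint_specializes w).mem_open U.2 hwU
  have hgmax : ∀ ξ' : W, ξ' ⤳ genericPoint W → ξ' = genericPoint W := fun ξ' hsp =>
    (hsp.antisymm (genericPoint_specializes ξ')).eq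
  obtain ⟨hcomp, -⟩ := F1 (genericPoint W) hgU hgmax
  have htrg : tr h (genericPoint W) = e :=
    F2 (genericPoint W) hgU (fun z' _ hsp => hgmax z' hsp)
  have hopen : IsOpen (closure ({h.base (genericPoint W)} : Set S)) :=
    isOpen_of_mem_irreducibleComponents S (fun s => (hS s).1.1) hfin _ hcomp
  obtain ⟨V₀, hV₀⟩ : ∃ V₀ : S.Opens, (V₀ : Set S) = closure ({h.base (genericPoint W)} : Set S) :=
    ⟨⟨_, hopen⟩, rfl⟩
  have hrange : Set.range h.base ⊆ Set.range V₀.ι.base := by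
    rintro _ ⟨z, rfl⟩
    rw [Scheme.Opens.range_ι, hV₀]
    exact ((genericPoint_specializes z).map h.continuous).mem_closure
  obtain ⟨h₀, hh₀⟩ : ∃ h₀ : W ⟶ (V₀ : Scheme.{u}), h₀ ≫ V₀.ι = h :=
    ⟨IsOpenImmersion.lift V₀.ι h hrange, IsOpenImmersion.lift_fac _ _ _⟩
  have hpt : ∀ z : W, V₀.ι.base (h₀.base z) = h.base z := by
    intro z
    rw [← Scheme.Hom.comp_apply, hh₀]
  haveI : IrreducibleSpace ↥(V₀ : Scheme.{u}) := by
    have : IsIrreducible (V₀ : Set S) := by rw [hV₀]; exact hcomp.1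
    exact Subtype.irreducibleSpace this
  have hdense : ∀ v : ↥(V₀ : Scheme.{u}), h₀.base (genericPoint W) ⤳ v := by
    intro v
    rw [← V₀.ι.isEmbedding.isInducing.specializes_iff, hpt, specializes_iff_mem_closure, ← hV₀]
    exact v.2
  haveI : IsDominant h₀ :=
    ⟨fun v => closure_mono (Set.singleton_subset_iff.mpr (Set.mem_range_self (genericPoint W)))
      (hdense v).mem_closure⟩
  haveI : LocallyOfFiniteType (h₀ ≫ V₀.ι) := by rw [hh₀]; infer_instance
  haveI : LocallyOfFiniteType h₀ := locallyOfFiniteType_of_comp h₀ V₀.ι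
  have htr : ∀ z : W, tr h₀ z = tr h z := by
    intro z
    have h1 := Groth.Agent.Lib.Helper4.PropDim1.tr_comp h₀ V₀.ι z
    rw [tr_openImmersion V₀.ι, zero_add] at h1
    rw [← h1]
    exact tr_congr_hom _ _ hh₀ z
  obtain ⟨d, hd, -⟩ := exists_open_fibreDimAt_le h₀ w
  obtain ⟨ξ, hξw, hfξ, htrξ, -⟩ := exists_max_gen_tr_eq h₀ w d hd
  obtain ⟨ξ', hξ'w, hfξ', htrξ', -⟩ := exists_max_gen_tr_eq h w e F3
  have hle1 : d ≤ e := by
    have h1 := tr_le_fibreDimAt_of_specializes_nn h w ξ hξw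
    rw [F3, ← htr, htrξ] at h1
    exact_mod_cast h1
  have hle2 : e ≤ d := by
    have h1 := tr_le_fibreDimAt_of_specializes_nn h₀ w ξ' hξ'w
    rw [hd, htr, htrξ'] at h1
    exact_mod_cast h1
  have hde : d = e := le_antisymm hle1 hle2
  have H2 : FlatMor.fibreDimAt h₀ w = ((tr h₀ (genericPoint W) : ℕ) : WithBot ℕ∞) := by
    rw [hd, htr, htrg, hde]
  have H3 : CAlg2.IsGeomUnibranch ((V₀ : Scheme.{u}).presheaf.stalk (h₀.base w)) :=
    isGeomUnibranch_of_isOpenImmersion V₀.ι (h₀.base w) (h.base w) (hpt w) (hS _)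
  have h1 : EGA43.IsUnivOpenAt h₀ w := isUnivOpenAt_of_irreducible h₀ w H2 H3
  have h2 : EGA43.IsUnivOpenAt (h₀ ≫ V₀.ι) w :=
    S4925_main _ _ w h1 (isUnivOpenAt_of_universallyOpen _ _)
  rwa [hh₀] at h2

/-- **S14070** -/
theorem main {X S : Scheme.{u}}
    (hS : ∀ s : S, CAlg2.IsGeomUnibranch (S.presheaf.stalk s))
    (hfin : (irreducibleComponents (S : Type u)).Finite)
    (f : X ⟶ S) [LocallyOfFiniteType f]
    (hT : ∀ x : X, ∃ W : TopologicalSpace.Closeds X, (W : Set X) ∈ irreducibleComponents (X : Type u) ∧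
      ∃ w : ↥((Scheme.IdealSheafData.vanishingIdeal W).subscheme),
        (Scheme.IdealSheafData.vanishingIdeal W).subschemeι.base w = x ∧
        EGA43.IsEquidimAt ((Scheme.IdealSheafData.vanishingIdeal W).subschemeι ≫ f) w) :
    UniversallyOpen f := by
  apply universallyOpen_of_forall_isUnivOpenAt
  intro x
  obtain ⟨W, hW, w, hw, hE⟩ := hT x
  haveI : IrreducibleSpace ↥(Scheme.IdealSheafData.vanishingIdeal W).subscheme :=
    irreducibleSpace_vanishingIdeal_subscheme _ hW.1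
  have h1 := isUnivOpenAt_of_isEquidimAt_irreducible hS hfin
    ((Scheme.IdealSheafData.vanishingIdeal W).subschemeι ≫ f) w hE
  have h2 := S4926_main _ f w h1
  rwa [hw] at h2

end Groth.Agent.Helper7.ChevUOT
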