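import Mathlib
import Groth.Agent.Lib.Helper4.ChevCrit8

/-! helper7: the three characterisations of equidimensionality at a point with geometrically
unibranch image (S4939), built on helper4's `Equi5`, `ChevCrit8`, `UnivOpenT1`. -/

set_option backward.isDefEq.respectTransparency.types false
set_option synthInstance.maxHeartbeats 400000
set_option autoImplicit false
set_option linter.unusedSectionVars false
set_option linter.style.haveILetI false
set_option linter.unusedSimpArgs false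
universe u v w
open CategoryTheory CategoryTheory.Limits AlgebraicGeometry TopologicalSpace IsLocalRing Opposite
open Cardinal AffineSpace MvPolynomial
open Groth.Agent.Lib.Helper4.DimIneq1 Groth.Agent.Lib.Helper4.DimFT2 Groth.Agent.Lib.Helper4.Catenary1
open Groth.Agent.Lib.Helper4.DimEq1 Groth.Agent.Lib.Helper4.DimIneq2 Groth.Agent.Lib.Helper4.DimEq2
open Groth.Agent.Lib.Helper4.DimIneq3 Groth.Agent.Lib.Helper4.DimIneq4
open Groth.Agent.Lib.Helper4.NormFibre2 Groth.Agent.Lib.Helper4.RadBir3 Groth.Agent.Lib.Helper4.DimFT3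
open Groth.Agent.Lib.Helper4.FibDim1 Groth.Agent.Lib.Helper4.FibDim2 Groth.Agent.Lib.Helper4.LocUC1
open Groth.Agent.Lib.Helper4.FibDim3 Groth.Agent.Lib.Helper4.FibDim4 Groth.Agent.Lib.Helper4.FibDim5
open Groth.Agent.Lib.Helper4.FibDim6 Groth.Agent.Lib.Helper4.FibDim7 Groth.Agent.Lib.Helper4.JacDim1
open Groth.Agent.Lib.Helper4.DimFT1
open Groth.Agent.Lib.Helper4.Chev2 Groth.Agent.Lib.Helper4.Chev5 Groth.Agent.Lib.Helper4.Chev6 Groth.Agent.Lib.Helper4.Chev8
open Groth.Agent.Lib.Helper4.JacDim4 Groth.Agent.Lib.Helper4.EffCartierDim1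
open Groth.Agent.Lib.Helper4.Chev9 Groth.Agent.Lib.Helper4.Chev4
open Groth.Agent.Lib.Helper4.Chev10 Groth.Agent.Lib.Helper4.Chev11 Groth.Agent.Lib.Helper4.Chev3 Groth.Agent.Lib.Helper4.Equi1 Groth.Agent.Lib.Helper4.Equi2 Groth.Agent.Lib.Helper4.OpenAt1 Groth.Agent.Lib.Helper4.Equi3 Groth.Agent.Lib.Helper4.Equi4 Groth.Agent.Lib.Helper4.Equi5 Groth.Agent.Lib.Helper4.Equi6 Groth.Agent.Lib.Helper4.Equi7 Groth.Agent.Lib.Helper4.Aff1 Groth.Agent.Lib.Helper4.Aff2 Groth.Agent.Lib.Helper4.Equi10 Groth.Agent.Lib.Helper4.Val1 Groth.Agent.Lib.Helper4.BaseChg1 Groth.Agent.Lib.Helper4.UnivOpen1 Groth.Agent.Lib.Helper4.FibClosure1 Groth.Agent.Lib.Helper4.OpenNoeth1 Groth.Agent.Lib.Helper4.SecComp1 Groth.Agent.Lib.Helper4.SecComp2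
open Groth.Agent.Lib.Helper4.SecComp3 Groth.Agent.Lib.Helper4.PropDim1 Groth.Agent.Lib.Helper4.ZMTNormalPt1 Groth.Agent.Lib.Helper4.UO Groth.Agent.Lib.Helper4.UOp
open Groth.Agent.Lib.Helper4.ChevCrit1 Groth.Agent.Lib.Helper4.ChevCrit2 Groth.Agent.Lib.Helper4.ChevCrit3
open Groth.Agent.Lib.Helper4.IrrCompDomain1 Groth.Agent.Lib.Helper4.RadBir1
open Groth.Agent.Lib.Helper4.ChevCrit4
open Groth.Agent.Lib.Helper4.ChevCrit5
open Groth.Agent.Lib.Helper4.DedekindOpen1 Groth.Agent.Lib.Helper4.UnivOpenT1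
open Groth.Agent.Lib.Helper4.ChevCrit7

open Groth.Agent.Lib.Helper4.ChevCrit8
set_option linter.unusedVariables false
set_option maxHeartbeats 1600000

namespace Groth.Agent.Helper7.EquiTFAE

theorem isGeomUnibranch_congr {Y : Scheme.{u}} (y y' : Y) (h : y = y')
    (hy : CAlg2.IsGeomUnibranch (Y.presheaf.stalk y)) :
    CAlg2.IsGeomUnibranch (Y.presheaf.stalk y') := by
  subst h
  exact hy

theorem isEquidim_of_isDomain_red (R : Type u) [CommRing R] (h : IsDomain (CAlg2.red R)) :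
    EGA4.IsEquidim R := by
  have hprime : (nilradical R).IsPrime := (Ideal.Quotient.isDomain_iff_prime _).mp h
  intro p hp
  haveI hpp : p.IsPrime := hp.1.1
  have hpe : p = nilradical R :=
    le_antisymm (hp.2 ⟨hprime, bot_le⟩ (nilradical_le_prime p)) (nilradical_le_prime p)
  rw [hpe]
  apply le_antisymm (ringKrullDim_quotient_le _)
  rw [ringKrullDim_quotient, ringKrullDim]
  refine Order.krullDim_le_of_strictMono
    (fun P : PrimeSpectrum R =>
      (⟨P, (PrimeSpectrum.mem_zeroLocus _ _).mpr (nilradical_le_prime P.asIdeal)⟩ :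
        ↥(PrimeSpectrum.zeroLocus (R := R) (nilradical R)))) ?_
  intro a b hab
  exact hab

section
variable {X Y : Scheme.{u}} (f : X ⟶ Y) [LocallyOfFiniteType f]

theorem coheight_le_genIn {W : Scheme.{u}} (ι : W ⟶ X) [IsClosedImmersion ι] (ξ x : X)
    (hr : Set.range ι = closure ({ξ} : Set X)) (w : W) (hw : ι w = x) :
    ((Order.coheight w : ℕ∞) : WithBot ℕ∞) ≤
      topologicalKrullDim ↥{t : X | t ∈ closure ({ξ} : Set X) ∧ t ⤳ x} := by
  haveI : QuasiSober ↥{t : X | t ∈ closure ({ξ} : Set X) ∧ t ⤳ x} :=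
    quasiSober_gen _ isClosed_closure x
  rw [Groth.Agent.Helper4.GM.topologicalKrullDim_eq_krullDim_specialization,
    Order.coheight_eq_krullDim_Ici]
  have hle : ∀ a b : ↥{t : X | t ∈ closure ({ξ} : Set X) ∧ t ⤳ x},
      (specializationOrder ↥{t : X | t ∈ closure ({ξ} : Set X) ∧ t ⤳ x}).le a b ↔ b.1 ⤳ a.1 := by
    intro a b
    change b ⤳ a ↔ b.1 ⤳ a.1
    rw [Topology.IsInducing.subtypeVal.specializes_iff]
  have hmem : ∀ t' : ↥(Set.Ici w), ι t'.1 ∈ {t : X | t ∈ closure ({ξ} : Set X) ∧ t ⤳ x} := by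
    intro t'
    refine ⟨?_, ?_⟩
    · rw [← hr]
      exact ⟨_, rfl⟩
    · rw [← hw]
      have h1 : t'.1 ⤳ w := t'.2
      exact h1.map ι.continuous
  refine @Order.krullDim_le_of_strictMono _ _ _
    (specializationOrder ↥{t : X | t ∈ closure ({ξ} : Set X) ∧ t ⤳ x}).toPreorder
    (fun t' : ↥(Set.Ici w) =>
      (⟨ι t'.1, hmem t'⟩ : ↥{t : X | t ∈ closure ({ξ} : Set X) ∧ t ⤳ x})) ?_
  intro a b hlt
  have hlt' : b.1 ⤳ a.1 ∧ ¬ a.1 ⤳ b.1 := by
    rw [lt_iff_le_not_ge] at hlt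
    exact hlt
  apply (@lt_iff_le_not_ge _
    (specializationOrder ↥{t : X | t ∈ closure ({ξ} : Set X) ∧ t ⤳ x}).toPreorder _ _).mpr
  constructor
  · rw [hle]
    exact hlt'.1.map ι.continuous
  · intro h
    rw [hle] at h
    exact hlt'.2 (ι.isEmbedding.isInducing.specializes_iff.mp h)

end

section
variable {W Y : Scheme.{u}} (g : W ⟶ Y) [LocallyOfFiniteType g]

/-- the dimension formula for a morphism from an irreducible scheme which is equidimensional at
a point with geometrically unibranch image -/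
theorem dim_formula_irreducible [IrreducibleSpace W] [IsLocallyNoetherian Y] (w : W)
    (hy : CAlg2.IsGeomUnibranch (Y.presheaf.stalk (g.base w)))
    (hcomp : closure ({g (genericPoint W)} : Set Y) ∈ irreducibleComponents (Y : Type u))
    (hfd : FlatMor.fibreDimAt g w ≤ ((tr g (genericPoint W) : ℕ) : WithBot ℕ∞)) :
    ringKrullDim (W.presheaf.stalk w) + ((tr g w : ℕ) : WithBot ℕ∞) =
      ringKrullDim (Y.presheaf.stalk (g.base w)) + ((tr g (genericPoint W) : ℕ) : WithBot ℕ∞) := by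
  obtain ⟨d, hd, O, hwO, hO⟩ := exists_open_fibreDimAt_le g w
  have hopen : ∀ z : W, g.base z = g.base w → z ⤳ w → EGA43.IsOpenAt g.base z := by
    intro z hz hsp
    have hzO : z ∈ O := hsp.mem_open O.2 hwO
    have h1 : FlatMor.fibreDimAt g z ≤ ((tr g (genericPoint W) : ℕ) : WithBot ℕ∞) :=
      (hO z hzO).trans (hd ▸ hfd)
    have h2 : EGA43.IsEquidimAt g z := isEquidimAt_of_irreducible_nn g z hcomp h1
    have h3 : EGA43.IsUnivOpenAt g z :=
      isUnivOpenAt_of_isEquidimAt g z (isGeomUnibranch_congr _ _ hz.symm hy) h2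
    exact isOpenAt_of_isUnivOpenAt g z h3
  have hform := dim_formula_of_isOpenAt g w (fun z hz1 hz2 => by
    apply hopen
    · exact fiberι_mem g _ z
    · have h1 : z ⤳ g.asFiber w := specializes_iff_mem_closure.mpr hz1
      have h2 := h1.map (g.fiberι (g.base w)).continuous
      rwa [g.fiberι_asFiber w] at h2)
  have hfe : FlatMor.fibreDimAt g w = ((tr g (genericPoint W) : ℕ) : WithBot ℕ∞) :=
    le_antisymm hfd
      (tr_le_fibreDimAt_of_specializes_nn g w (genericPoint W) (genericPoint_specializes w))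
  rw [hform, add_assoc]
  congr 1
  rw [← hfe]
  exact (fibreDimAt_eq g w).symm

end

section
variable {X Y : Scheme.{u}} (f : X ⟶ Y) [LocallyOfFiniteType f]

theorem dim_add_fibreDimAt_le [IsLocallyNoetherian Y] (x : X)
    (hy : CAlg2.IsGeomUnibranch (Y.presheaf.stalk (f.base x)))
    (h : EGA43.IsEquidimAt f x) (𝔭 : Ideal (X.presheaf.stalk x))
    (h𝔭 : 𝔭 ∈ minimalPrimes (X.presheaf.stalk x)) :
    ringKrullDim (Y.presheaf.stalk (f.base x)) + FlatMor.fibreDimAt f x ≤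
      ringKrullDim (X.presheaf.stalk x ⧸ 𝔭) + ((tr f x : ℕ) : WithBot ℕ∞) := by
  haveI hp : 𝔭.IsPrime := h𝔭.1.1
  obtain ⟨e, U, hxU, F1, F2, F3⟩ := isEquidimAt_facts' f x h
  obtain ⟨ξ, hξdef⟩ : ∃ ξ : X, ξ = X.fromSpecStalk x ⟨𝔭, hp⟩ := ⟨_, rfl⟩
  have hξx : ξ ⤳ x := by
    rw [hξdef]
    exact fromSpecStalk_specializes x _
  have hξU : ξ ∈ U := hξx.mem_open U.2 hxU
  have hξmax : ∀ ξ' : X, ξ' ⤳ ξ → ξ' = ξ := by
    rw [hξdef]
    exact fun ξ' hsp => fromSpecStalk_max_of_minimal x 𝔭 h𝔭 ξ' hsp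
  obtain ⟨hcompY, -⟩ := F1 ξ hξU hξmax
  have htrξ : tr f ξ = e := F2 ξ hξU (fun z' _ hsp => hξmax z' hsp)
  have hr : Set.range (Scheme.IdealSheafData.vanishingIdeal
      (⟨closure ({ξ} : Set X), isClosed_closure⟩ : TopologicalSpace.Closeds X)).subschemeι =
      closure ({ξ} : Set X) := by
    rw [Scheme.IdealSheafData.range_subschemeι, Scheme.IdealSheafData.coe_support_vanishingIdeal]
    rfl
  haveI : IrreducibleSpace ↥(Scheme.IdealSheafData.vanishingIdeal
      (⟨closure ({ξ} : Set X), isClosed_closure⟩ : TopologicalSpace.Closeds X)).subscheme :=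
    irreducibleSpace_vanishingIdeal_subscheme _ isIrreducible_singleton.closure
  obtain ⟨ι, hι⟩ : ∃ ι : (Scheme.IdealSheafData.vanishingIdeal
      (⟨closure ({ξ} : Set X), isClosed_closure⟩ : TopologicalSpace.Closeds X)).subscheme ⟶ X,
      ι = (Scheme.IdealSheafData.vanishingIdeal
      (⟨closure ({ξ} : Set X), isClosed_closure⟩ : TopologicalSpace.Closeds X)).subschemeι :=
    ⟨_, rfl⟩
  haveI : IsClosedImmersion ι := by rw [hι]; infer_instance
  rw [← hι] at hr
  have hxr : x ∈ Set.range ι := by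
    rw [hr]
    exact specializes_iff_mem_closure.mp hξx
  obtain ⟨wx, hwx⟩ := hxr
  have hgen : ι (genericPoint _) = ξ := map_genericPoint_of_range ι ξ hr
  have htrgen : tr (ι ≫ f) (genericPoint _) = e := by
    rw [tr_comp_closedImmersion, hgen, htrξ]
  have hpt : (ι ≫ f).base wx = f.base x := by
    change f.base (ι.base wx) = f.base x
    rw [hwx]
  have hgpt : (ι ≫ f) (genericPoint _) = f ξ := by
    change f (ι (genericPoint _)) = f ξ
    rw [hgen]
  have h2 : FlatMor.fibreDimAt (ι ≫ f) wx ≤ (e : WithBot ℕ∞) := by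
    apply fibreDimAt_le_of_max_tr_le_nn
    intro z'' _ hsp'' _
    rw [tr_comp_closedImmersion]
    have h3 := tr_le_fibreDimAt_of_specializes_nn f (ι wx) (ι z'') (hsp''.map ι.continuous)
    rw [hwx, F3] at h3
    exact_mod_cast h3
  have key := dim_formula_irreducible (ι ≫ f) wx (isGeomUnibranch_congr _ _ hpt.symm hy)
    (by rw [hgpt]; exact hcompY) (by rw [htrgen]; exact h2)
  rw [htrgen, tr_comp_closedImmersion, hwx, stalk_dim_congr _ _ hpt,
    AlgebraicGeometry.ringKrullDim_stalk_eq_coheight wx] at key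
  rw [F3, ← key, dim_stalk_quot_eq_genIn x 𝔭, ← hξdef]
  exact add_le_add_left (coheight_le_genIn ι ξ x hr wx hwx) _

theorem isEquidim_stalk_of_isEquidimAt [IsLocallyNoetherian Y] (x : X)
    (hy : CAlg2.IsGeomUnibranch (Y.presheaf.stalk (f.base x)))
    (h : EGA43.IsEquidimAt f x) : EGA4.IsEquidim (X.presheaf.stalk x) := by
  intro 𝔭 h𝔭
  have h1 := dim_add_fibreDimAt_le f x hy h 𝔭 h𝔭
  have h2 := Groth.Agent.Lib.Helper4.FibreStalkDim1.S3447_main f x
  have h3 : ringKrullDim (X.presheaf.stalk x) + ((tr f x : ℕ) : WithBot ℕ∞) ≤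
      ringKrullDim (X.presheaf.stalk x ⧸ 𝔭) + ((tr f x : ℕ) : WithBot ℕ∞) := by
    refine le_trans ?_ h1
    rw [fibreDimAt_eq f x, ← add_assoc]
    exact add_le_add_left h2 _
  have h4 : ringKrullDim (X.presheaf.stalk x ⧸ 𝔭) + ((tr f x : ℕ) : WithBot ℕ∞) ≤
      ringKrullDim (X.presheaf.stalk x) + ((tr f x : ℕ) : WithBot ℕ∞) :=
    add_le_add_left (ringKrullDim_quotient_le 𝔭) _
  exact add_natCast_cancel _ _ _ (le_antisymm h4 h3)

/-- **S4939** -/
theorem main [IsLocallyNoetherian Y] (x : X)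
    (hy : CAlg2.IsGeomUnibranch (Y.presheaf.stalk (f.base x))) :
    List.TFAE [EGA43.IsEquidimAt f x,
      EGA4.IsEquidim (X.presheaf.stalk x) ∧ (∀ z : ↥(f.fiber (f.base x)), f.asFiber x ∈ closure {z} →
        (∀ z' : ↥(f.fiber (f.base x)), z ∈ closure {z'} → z' = z) → EGA43.IsOpenAt f.base ((f.fiberι (f.base x)).base z)),
      EGA4.IsEquidim (X.presheaf.stalk x) ∧ (∀ z : ↥(f.fiber (f.base x)), f.asFiber x ∈ closure {z} →
        (∀ z' : ↥(f.fiber (f.base x)), z ∈ closure {z'} → z' = z) → EGA43.IsUnivOpenAt f ((f.fiberι (f.base x)).base z))] := by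
  tfae_have 1 → 3 := by
    intro h
    refine ⟨isEquidim_stalk_of_isEquidimAt f x hy h, fun z hz1 hz2 => ?_⟩
    have hfz : f.base ((f.fiberι (f.base x)).base z) = f.base x := fiberι_mem f _ z
    have hsp : (f.fiberι (f.base x)).base z ⤳ x := by
      have h1 : z ⤳ f.asFiber x := specializes_iff_mem_closure.mpr hz1
      have h2 := h1.map (f.fiberι (f.base x)).continuous
      rwa [f.fiberι_asFiber x] at h2
    obtain ⟨e, U, hxU, h1, h2⟩ := h
    have hE : EGA43.IsEquidimAt f ((f.fiberι (f.base x)).base z) := by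
      refine ⟨e, U, hsp.mem_open U.2 hxU, ?_, h2⟩
      intro Z hZ
      obtain ⟨W, hW, hxW, hcl⟩ := h1 Z hZ
      exact ⟨W, hW, by rw [hfz]; exact hxW, hcl⟩
    exact isUnivOpenAt_of_isEquidimAt f _ (isGeomUnibranch_congr _ _ hfz.symm hy) hE
  tfae_have 3 → 2 := fun ⟨h1, h2⟩ =>
    ⟨h1, fun z hz1 hz2 => isOpenAt_of_isUnivOpenAt f _ (h2 z hz1 hz2)⟩
  tfae_have 2 → 1 := fun ⟨h1, h2⟩ =>
    S4918_main f x h1 (isEquidim_of_isDomain_red _ hy.1.1) h2
  tfae_finish

end

end Groth.Agent.Helper7.EquiTFAE
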